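import Mathlib.Topology.ExtremallyDisconnected

/-!
Minimal (irreducible) extremally disconnected covers of compact Hausdorff spaces.
-/

set_option autoImplicit false

universe u

open Function Set

namespace Groth.Agent.PtTopLib

variable {X : Type u} [TopologicalSpace X]

/-- An endomorphism over `X` of an irreducible cover is the identity. -/
theorem eq_id_of_irreducible {E : Type u} [TopologicalSpace E] [T2Space E] {p : E → X}
    (hs : Surjective p) (hmin : ∀ F : Set E, IsClosed F → F ≠ univ → p '' F ≠ univ)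
    {h : E → E} (hh : Continuous h) (hp : p ∘ h = p) : h = id := by
  funext x
  by_contra hx
  obtain ⟨G, G', hG, hG', hxG, hxG', hd⟩ := t2_separation (Ne.symm hx)
  have hne : (G ∩ h ⁻¹' G')ᶜ ≠ univ := compl_ne_univ.2 ⟨x, hxG, hxG'⟩
  obtain ⟨a, ha⟩ := nonempty_compl.2 (hmin _ (hG.inter (hG'.preimage hh)).isClosed_compl hne)
  obtain ⟨e, rfl⟩ := hs a
  have key : ∀ y, p y = p e → y ∈ G ∩ h ⁻¹' G' := fun y hy => by
    by_contra hy'
    exact ha ⟨y, hy', hy⟩
  exact Set.disjoint_left.1 hd (key (h e) (congrFun hp e)).1 (key e rfl).2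

variable (X) in
theorem exists_irreducible_cover [CompactSpace X] [T2Space X] :
    ∃ (X' : Type u) (_ : TopologicalSpace X') (_ : CompactSpace X') (_ : T2Space X')
      (_ : ExtremallyDisconnected X') (p : X' → X), Continuous p ∧ Surjective p ∧
        ∀ E : Set X', IsClosed E → E ≠ univ → p '' E ≠ univ := by
  letI : TopologicalSpace (ULift.{u} X) := ⊥
  haveI : DiscreteTopology (ULift.{u} X) := ⟨rfl⟩
  let π : StoneCech (ULift.{u} X) → X := stoneCechExtend (continuous_of_discreteTopology (f := ULift.down.{u}))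
  have hπ : Continuous π := continuous_stoneCechExtend _
  have hπs : Surjective π := fun x =>
    ⟨stoneCechUnit (ULift.up x), congrFun (stoneCechExtend_extends continuous_of_discreteTopology) (ULift.up x)⟩
  obtain ⟨E, hE, honto, hmin⟩ := exists_compact_surjective_zorn_subset hπ hπs
  let p : E → X := E.domRestrict π
  have hp : Continuous p := hπ.comp continuous_subtype_val
  have hps : Surjective p := fun a => by
    obtain ⟨d, hd, rfl⟩ := (honto ▸ mem_univ a : a ∈ π '' E)
    exact ⟨⟨d, hd⟩, rfl⟩
  have hmin' : ∀ F : Set E, IsClosed F → F ≠ univ → p '' F ≠ univ := fun F h1 h2 => hmin F h2 h1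
  obtain ⟨s, hs, hsp⟩ := StoneCech.projective (X := ULift.{u} X) hπ hp hps
  have hret : s ∘ Subtype.val = id :=
    eq_id_of_irreducible hps hmin' (hs.comp continuous_subtype_val) (by rw [← comp_assoc, hsp]; rfl)
  have hproj : CompactT2.Projective E := by
    intro Y Z _ _ _ _ _ _ f g hf hg hgs
    obtain ⟨k, hk, hgk⟩ := StoneCech.projective (X := ULift.{u} X) (hf.comp hs) hg hgs
    refine ⟨k ∘ Subtype.val, hk.comp continuous_subtype_val, ?_⟩
    rw [← comp_assoc, hgk, comp_assoc, hret, comp_id]
  exact ⟨E, inferInstance, inferInstance, inferInstance, hproj.extremallyDisconnected, p, hp, hps, hmin'⟩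

theorem irreducible_cover_unique [CompactSpace X] [T2Space X] (X' X'' : Type u) [TopologicalSpace X']
    [CompactSpace X'] [T2Space X'] [ExtremallyDisconnected X'] [TopologicalSpace X''] [CompactSpace X'']
    [T2Space X''] [ExtremallyDisconnected X''] (p : X' → X) (q : X'' → X) (hp : Continuous p)
    (hps : Surjective p) (hpm : ∀ E : Set X', IsClosed E → E ≠ univ → p '' E ≠ univ) (hq : Continuous q)
    (hqs : Surjective q) (hqm : ∀ E : Set X'', IsClosed E → E ≠ univ → q '' E ≠ univ) :
    ∃ h : X' ≃ₜ X'', q ∘ h = p := by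
  obtain ⟨a, ha, hqa⟩ := CompactT2.ExtremallyDisconnected.projective (A := X') hp hq hqs
  obtain ⟨b, hb, hpb⟩ := CompactT2.ExtremallyDisconnected.projective (A := X'') hq hp hps
  have h1 : b ∘ a = id := eq_id_of_irreducible hps hpm (hb.comp ha) (by rw [← comp_assoc, hpb, hqa])
  have h2 : a ∘ b = id := eq_id_of_irreducible hqs hqm (ha.comp hb) (by rw [← comp_assoc, hqa, hpb])
  exact ⟨⟨⟨a, b, congrFun h1, congrFun h2⟩, ha, hb⟩, hqa⟩

end Groth.Agent.PtTopLib
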