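/-
Shrinking coverings of compact, relatively Hausdorff subsets.
-/
import Mathlib

set_option autoImplicit false

universe u

open Set

namespace Groth.Agent.PtTopLib

variable {X : Type u} [TopologicalSpace X] {Z : Set X}

theorem separate (hsep : ∀ z ∈ Z, ∀ z' ∈ Z, z ≠ z' → ∃ A B : Set X, IsOpen A ∧ IsOpen B ∧ z ∈ A ∧ z' ∈ B ∧ Disjoint A B)
    {K L : Set X} (hK : IsCompact K) (hL : IsCompact L) (hKZ : K ⊆ Z) (hLZ : L ⊆ Z) (hd : Disjoint K L) :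
    ∃ A B : Set X, IsOpen A ∧ IsOpen B ∧ K ⊆ A ∧ L ⊆ B ∧ Disjoint A B := by
  have h1 : ∀ z ∈ K, ∃ A B : Set X, IsOpen A ∧ IsOpen B ∧ z ∈ A ∧ L ⊆ B ∧ Disjoint A B := by
    intro z hz
    choose A B hA hB hzA hwB hdis using fun w : L =>
      hsep z (hKZ hz) w.1 (hLZ w.2) (fun e => hd.ne_of_mem hz w.2 e)
    obtain ⟨s, hs⟩ := hL.elim_finite_subcover B hB fun w hw => mem_iUnion.2 ⟨⟨w, hw⟩, hwB ⟨w, hw⟩⟩
    refine ⟨⋂ w ∈ s, A w, ⋃ w ∈ s, B w, s.finite_toSet.isOpen_biInter fun w _ => hA w,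
      isOpen_biUnion fun w _ => hB w, mem_iInter₂.2 fun w _ => hzA w, hs, ?_⟩
    rw [disjoint_iUnion₂_right]
    exact fun w hw => (hdis w).mono_left (biInter_subset_of_mem hw)
  choose A B hA hB hzA hLB hdis using fun z : K => h1 z.1 z.2
  obtain ⟨s, hs⟩ := hK.elim_finite_subcover A hA fun z hz => mem_iUnion.2 ⟨⟨z, hz⟩, hzA ⟨z, hz⟩⟩
  refine ⟨⋃ z ∈ s, A z, ⋂ z ∈ s, B z, isOpen_biUnion fun z _ => hA z,
    s.finite_toSet.isOpen_biInter fun z _ => hB z, hs, subset_iInter₂ fun z _ => hLB z, ?_⟩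
  rw [disjoint_iUnion₂_left]
  exact fun z hz => (hdis z).mono_right (biInter_subset_of_mem hz)

theorem thicken (hZ : IsCompact Z)
    (hsep : ∀ z ∈ Z, ∀ z' ∈ Z, z ≠ z' → ∃ A B : Set X, IsOpen A ∧ IsOpen B ∧ z ∈ A ∧ z' ∈ B ∧ Disjoint A B) :
    ∀ (n : ℕ) (C : Fin (n + 1) → Set X) (_ : ∀ l, IsClosed (C l)) (W : Set X) (_ : IsOpen W)
      (_ : (⋂ l, C l) ∩ Z ⊆ W),
      ∃ O : Fin (n + 1) → Set X, (∀ l, IsOpen (O l)) ∧ (∀ l, C l ∩ Z ⊆ O l) ∧ (⋂ l, O l) ⊆ W := by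
  intro n
  induction n with
  | zero =>
    intro C hC W hW h
    refine ⟨fun _ => W, fun _ => hW, fun l x hx => h ⟨mem_iInter.2 fun i => ?_, hx.2⟩, iInter_subset _ 0⟩
    rw [Subsingleton.elim (α := Fin 1) i l]
    exact hx.1
  | succ n ih =>
    intro C hC W hW h
    have hK : IsCompact ((C 0 ∩ Z) \ W) := IsCompact.diff (hZ.inter_left (hC 0)) hW
    have hL : IsCompact ((⋂ l : Fin (n + 1), C l.succ) ∩ Z) :=
      hZ.inter_left (isClosed_iInter fun l => hC _)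
    obtain ⟨A, B, hA, hB, hKA, hLB, hd⟩ := separate hsep hK hL
      (fun x hx => hx.1.2) (fun x hx => hx.2) (by
        rw [disjoint_left]
        intro x hx hx'
        refine hx.2 (h ⟨mem_iInter.2 fun l => ?_, hx.1.2⟩)
        refine Fin.cases hx.1.1 (fun l => mem_iInter.1 hx'.1 l) l)
    obtain ⟨O, hO, hCO, hOB⟩ := ih (fun l => C l.succ) (fun l => hC _) B hB hLB
    have h0 : C 0 ∩ Z ⊆ W ∪ A := fun x hx => by
      by_cases hxW : x ∈ W
      · exact Or.inl hxW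
      · exact Or.inr (hKA ⟨hx, hxW⟩)
    refine ⟨Fin.cons (W ∪ A) O, fun l => Fin.cases (hW.union hA) hO l,
      fun l => Fin.cases h0 hCO l, fun x hx => ?_⟩
    have hx0 : x ∈ W ∪ A := mem_iInter.1 hx 0
    rcases hx0 with hx0 | hx0
    · exact hx0
    · exact absurd (hOB (mem_iInter.2 fun l => by simpa using mem_iInter.1 hx l.succ)) (disjoint_left.1 hd hx0)

/-- From an initial shrinking of finite support to one compatible with the given intersections. -/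
theorem refine_shrink (hZ : IsCompact Z)
    (hsep : ∀ z ∈ Z, ∀ z' ∈ Z, z ≠ z' → ∃ A B : Set X, IsOpen A ∧ IsOpen B ∧ z ∈ A ∧ z' ∈ B ∧ Disjoint A B)
    {ι : Type u} (V : ι → Set X) (s : Finset ι) (hV : ∀ i, IsOpen (V i)) (hVs : ∀ i, i ∉ s → V i = ∅)
    (hcov : Z ⊆ ⋃ i, V i) (p : ℕ) (W : (Fin (p + 1) → ι) → Set X) (hW : ∀ t, IsOpen (W t))
    (hVW : ∀ t, (⋂ l, closure (V (t l))) ∩ Z ⊆ W t) :
    ∃ V' : ι → Set X, (∀ i, IsOpen (V' i)) ∧ (Z ⊆ ⋃ i, V' i) ∧ (∀ i, V' i ⊆ V i) ∧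
      ∀ t : Fin (p + 1) → ι, (⋂ l, V' (t l)) ⊆ W t := by
  classical
  choose O hO hCO hOW using fun t : Fin (p + 1) → {i // i ∈ s} =>
    thicken hZ hsep p (fun l => closure (V (t l).1)) (fun l => isClosed_closure) _ (hW _) (hVW fun l => (t l).1)
  let V' : ι → Set X := fun i => V i ∩
    ⋂ q ∈ {q : (Fin (p + 1) → {i // i ∈ s}) × Fin (p + 1) | (q.1 q.2).1 = i}, O q.1 q.2
  refine ⟨V', fun i => (hV i).inter ((toFinite _).isOpen_biInter fun q _ => hO q.1 q.2), fun z hz => ?_,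
    fun i => inter_subset_left, fun t x hx => ?_⟩
  · obtain ⟨i, hi⟩ := mem_iUnion.1 (hcov hz)
    refine mem_iUnion.2 ⟨i, hi, mem_iInter₂.2 fun q hq => hCO q.1 q.2 ⟨?_, hz⟩⟩
    change z ∈ closure (V (q.1 q.2).1)
    rw [show (q.1 q.2).1 = i from hq]
    exact subset_closure hi
  · have ht : ∀ l, t l ∈ s := fun l => by_contra fun h => by
      have := (mem_iInter.1 hx l).1
      rw [hVs _ h] at this
      exact this
    exact hOW (fun l => ⟨t l, ht l⟩) (mem_iInter.2 fun l =>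
      mem_iInter₂.1 (mem_iInter.1 hx l).2 (fun l => ⟨t l, ht l⟩, l) rfl)

end Groth.Agent.PtTopLib
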