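import Mathlib.Topology.Category.TopCommRingCat
import Mathlib.Algebra.Category.Ring.Colimits
import Mathlib.CategoryTheory.Limits.Preserves.Basic

/-!
Colimits of topological rings.
-/

set_option autoImplicit false
set_option backward.isDefEq.respectTransparency false
set_option backward.isDefEq.respectTransparency.types false

universe v u

open CategoryTheory Limits Topology

namespace Groth.Agent.PtTopLib

/-- The ring topology induced along a ring homomorphism. -/
@[implicit_reducible]
def inducedRingTop {R S : Type*} [Ring R] [Ring S] [t : TopologicalSpace S] [IsTopologicalRing S]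
    (f : R →+* S) : RingTopology R :=
  let _ := t.induced f
  { toContinuousAdd := continuousAdd_induced f
    toContinuousMul := continuousMul_induced f
    toContinuousNeg := ⟨continuous_induced_rng.2 (by
      have : (f ∘ fun x : R => -x) = (fun x => -x) ∘ f := funext fun x => map_neg f x
      rw [this]
      exact continuous_neg.comp continuous_induced_dom)⟩ }

theorem inducedRingTop_toTop {R S : Type*} [Ring R] [Ring S] [t : TopologicalSpace S] [IsTopologicalRing S]
    (f : R →+* S) : (inducedRingTop f).toTopologicalSpace = t.induced f := rfl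

variable {J : Type u} [SmallCategory J] (F : J ⥤ TopCommRingCat.{u})

local notation "Φ" => forget₂ TopCommRingCat CommRingCat

/-- The colimit ring. -/
noncomputable abbrev colimRing : CommRingCat.{u} := colimit (F ⋙ Φ)

/-- The coprojections, as ring homomorphisms. -/
noncomputable def legRing (j : J) : (F.obj j : Type u) →+* (colimRing F : Type u) :=
  (colimit.ι (F ⋙ Φ) j).hom

/-- The finest ring topology for which all coprojections are continuous. -/
noncomputable def colimTop : RingTopology (colimRing F : Type u) :=
  sInf {b | ∀ j, (F.obj j).isTopologicalSpace.coinduced (legRing F j) ≤ b.toTopologicalSpace}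

theorem continuous_leg (j : J) : Continuous[(F.obj j).isTopologicalSpace, (colimTop F).toTopologicalSpace] (legRing F j) :=
  continuous_sInf_rng.2 <| Set.forall_mem_image.2 fun _ hb => continuous_iff_coinduced_le.2 (hb j)

/-- The colimit topological ring. -/
noncomputable def colimObj : TopCommRingCat.{u} :=
  @TopCommRingCat.of (colimRing F : Type u) _ (colimTop F).toTopologicalSpace (colimTop F).toIsTopologicalRing

/-- The colimit cocone. -/
noncomputable def colimCocone : Cocone F where
  pt := colimObj F
  ι :=
    { app := fun j => ⟨legRing F j, continuous_leg F j⟩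
      naturality := fun i j f => Subtype.ext (RingHom.ext fun x =>
        ConcreteCategory.congr_hom (colimit.w (F ⋙ Φ) f) x) }

theorem continuous_desc (s : Cocone F) :
    Continuous[(colimTop F).toTopologicalSpace, s.pt.isTopologicalSpace]
      (colimit.desc (F ⋙ Φ) ((Φ).mapCocone s)).hom := by
  let f : (colimRing F : Type u) →+* (s.pt : Type u) := (colimit.desc (F ⋙ Φ) ((Φ).mapCocone s)).hom
  have hle : colimTop F ≤ inducedRingTop f := by
    refine sInf_le fun j => ?_
    rw [inducedRingTop_toTop, ← continuous_iff_coinduced_le, continuous_induced_rng]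
    have e : ⇑f ∘ ⇑(legRing F j) = ⇑(s.ι.app j).1 := funext fun x =>
      ConcreteCategory.congr_hom (colimit.ι_desc ((Φ).mapCocone s) j) x
    rw [e]
    exact (s.ι.app j).2
  exact continuous_le_dom (t₂ := (colimTop F).toTopologicalSpace) (t₁ := TopologicalSpace.induced f s.pt.isTopologicalSpace) hle continuous_induced_dom

/-- It is a colimit. -/
noncomputable def colimCoconeIsColimit : IsColimit (colimCocone F) where
  desc s := ⟨(colimit.desc (F ⋙ Φ) ((Φ).mapCocone s)).hom, continuous_desc F s⟩
  fac s j := Subtype.ext (RingHom.ext fun x =>
    ConcreteCategory.congr_hom (colimit.ι_desc ((Φ).mapCocone s) j) x)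
  uniq s m hm := by
    have h : ((Φ).map m : colimRing F ⟶ (Φ).obj s.pt) = colimit.desc (F ⋙ Φ) ((Φ).mapCocone s) := by
      refine colimit.hom_ext fun j => ?_
      rw [colimit.ι_desc]
      exact congrArg (fun g => (Φ).map g) (hm j)
    exact Subtype.ext (congrArg CommRingCat.Hom.hom h)

theorem hasColimits_and_preserves :
    HasColimits TopCommRingCat.{u} ∧ PreservesColimits (forget₂ TopCommRingCat.{u} CommRingCat.{u}) :=
  ⟨⟨fun _ _ => ⟨fun F => ⟨⟨⟨colimCocone F, colimCoconeIsColimit F⟩⟩⟩⟩⟩,
    ⟨fun {_ _} => ⟨fun {F} => preservesColimit_of_preserves_colimit_cocone (colimCoconeIsColimit F)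
      (IsColimit.ofIsoColimit (colimit.isColimit (F ⋙ Φ)) (Cocone.ext (Iso.refl _) fun _ => by
        simp; rfl))⟩⟩⟩

end Groth.Agent.PtTopLib
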